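import Groth.Agent.SSMod.K807.Iface2
import Groth.Agent.Models.NodeRing

/-!
# The discrete valuation ring case of S15273: charts and exceptional components
-/

set_option autoImplicit false
universe u
open CategoryTheory CategoryTheory.Limits AlgebraicGeometry TopologicalSpace IsLocalRing
open Groth.Agent.Models.NodeRing

namespace K807.Iface

/-- **Exceptional components** from a generically bijective map of `A¹` or `G_m` into the smooth locus of a nodal curve
over an algebraically closed field, contracted by `f`, with few marked points. -/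
def Exc : Prop := ∀ (k : Type u) [Field k] [IsAlgClosed k] {X X₀ : Scheme.{u}}
    (q : X ⟶ Spec (CommRingCat.of k)) (_ : Curv2.IsNodalFamily q) (f : X ⟶ X₀)
    (q₀ : X₀ ⟶ Spec (CommRingCat.of k)) [LocallyOfFiniteType q₀] [IsSeparated q₀] [IsProper f]
    (_ : f ≫ q₀ = q)
    (_ : ∀ Z : Set X, IsClopen Z → (f.base '' Z).Subsingleton → Z = ∅)
    (M : Set X) (ℓ : Polynomial k) (h : Spec (CommRingCat.of (Localization.Away ℓ)) ⟶ X)
    (_ : h ≫ q = Spec.map (CommRingCat.ofHom (algebraMap k (Localization.Away ℓ))))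
    (n : ℕ) (_ : (n = 1 ∧ IsUnit ℓ) ∨ (n = 2 ∧ ℓ = Polynomial.X))
    (_ : ∀ v, h.base v ∉ DualGr.nonsmoothPts q)
    (v₀ : Spec (CommRingCat.of (Localization.Away ℓ))) (_ : closure {v₀} = Set.univ)
    (_ : ¬ IsClosed ({h.base v₀} : Set X))
    (_ : Function.Bijective (h.residueFieldMap v₀).hom)
    (_ : ∀ v v', f.base (h.base v) = f.base (h.base v'))
    (_ : (Set.range h.base ∩ M).encard + n ≤ 2),
    ∃ Z ∈ irreducibleComponents (X : Type u), SSMod.IsExcComp k f q M Z

/-- **Charts of nodal families** over a discrete valuation ring with algebraically closed residue field: an étale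
neighbourhood of a closed point, étale over `Spec R[u,v]/(uv - a)`, with one point in the fibre. -/
def NodeChart : Prop := ∀ (R : Type u) [CommRing R] [IsDomain R] [IsDiscreteValuationRing R]
    [IsAlgClosed (IsLocalRing.ResidueField R)] (ϖ : R) (_ : Irreducible ϖ) {Y : Scheme.{u}}
    (q : Y ⟶ Spec (CommRingCat.of R)) (_ : Curv2.IsNodalFamily q)
    (y : Y) (_ : IsClosed ({y} : Set Y)) (_ : q y = (closedPoint R : PrimeSpectrum R)),
    ∃ (a : R) (_ : a = 0 ∨ ∃ n : ℕ, a = ϖ ^ n) (V : Scheme.{u}) (e : V ⟶ Y) (_ : Etale e) (v : V) (_ : e v = y)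
      (γ : V ⟶ Spec (CommRingCat.of (W R a))) (_ : Etale γ),
      γ ≫ Spec.map (CommRingCat.ofHom (algebraMap R (W R a))) = e ≫ q ∧ IsClosed ({v} : Set V) ∧
        ∀ v', γ v' = γ v → v' = v

/-- The chart `u = ϖ^α ℓ`, `v = a' ℓ⁻¹`, `ϖ^α ℓ = c + ϖ^m X`, is étale over `R[u,v]/(uv - a)` after inverting `ϖ`. -/
def ChartEta : Prop := ∀ (R : Type u) [CommRing R] [IsDomain R] [IsDiscreteValuationRing R] (ϖ : R)
    (_ : Irreducible ϖ) (a a' c : R) (α m : ℕ) (ℓ : Polynomial R) (_ : a = ϖ ^ α * a')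
    (_ : Polynomial.C (ϖ ^ α) * ℓ = Polynomial.C c + Polynomial.C (ϖ ^ m) * Polynomial.X)
    (θ : W R a →+* Localization.Away ℓ)
    (_ : ∀ r, θ (algebraMap R (W R a) r) = algebraMap R (Localization.Away ℓ) r)
    (_ : θ (uu R a) = algebraMap (Polynomial R) (Localization.Away ℓ) (Polynomial.C (ϖ ^ α) * ℓ))
    (_ : θ (vv R a) * algebraMap (Polynomial R) (Localization.Away ℓ) ℓ =
      algebraMap R (Localization.Away ℓ) a'),
    ∃ O : (Spec (CommRingCat.of (Localization.Away ℓ))).Opens,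
      (∀ x : PrimeSpectrum (Localization.Away ℓ), algebraMap R (Localization.Away ℓ) ϖ ∉ x.asIdeal → x ∈ O) ∧
      Etale (O.ι ≫ Spec.map (CommRingCat.ofHom θ))

/-- Opens of the affine line are smooth and nodal families. -/
def LineNodal : Prop := ∀ (R : Type u) [CommRing R] (ℓ : Polynomial R),
    Smooth (Spec.map (CommRingCat.ofHom (algebraMap R (Localization.Away ℓ)))) ∧
    Curv2.IsNodalFamily (Spec.map (CommRingCat.ofHom (algebraMap R (Localization.Away ℓ))))

/-- Flat maps from `R[u,v]/(uv - a)` to fields: at a generic point `u` or `v` is nonzero, and `u` is not a nonzero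
constant. -/
def FlatAlg : Prop := ∀ (R : Type u) [CommRing R] [IsDomain R] [IsDiscreteValuationRing R] (ϖ : R)
    (_ : Irreducible ϖ) (a : R) (_ : a = 0 ∨ ∃ n : ℕ, a = ϖ ^ n) (F : Type u) [Field F] (ρ : W R a →+* F)
    (_ : ρ.Flat) (_ : ρ (algebraMap R (W R a) ϖ) ≠ 0),
    (ρ (uu R a) ≠ 0 ∨ ρ (vv R a) ≠ 0) ∧ ∀ c : R, c ≠ 0 → ρ (uu R a) ≠ ρ (algebraMap R (W R a) c)

end K807.Iface
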