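import Groth.Agent.SSMod.K971.FacDVR

/-!
# The discrete valuation ring case of S15273: interfaces

`Dat φ f β v ξ`: a discrete valuation ring `T` with compatible morphisms `a : Spec T ⟶ V`, `b : Spec T ⟶ X` over `C`
(`β : V ⟶ C`, `f : X ⟶ C`), the closed point going to `v` and `ξ`, the generic point going to the generic fibre over
the discrete valuation ring `R`.  The statements `Center`, `SmoothPt`, `Marks` are the independent ingredients of the
proof of `K971.SSUses.FacDVR`.
-/

set_option autoImplicit false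
universe u
open CategoryTheory CategoryTheory.Limits AlgebraicGeometry TopologicalSpace IsLocalRing

namespace K807.Iface

/-- A pair of compatible `T`-valued points, `T` a discrete valuation ring. -/
structure Dat {R : Type u} [CommRing R] [IsLocalRing R] {C X V : Scheme.{u}}
    (φ : C ⟶ Spec (CommRingCat.of R)) (f : X ⟶ C) (β : V ⟶ C) (v : V) (ξ : X) where
  T : Type u
  [cr : CommRing T]
  [dom : IsDomain T]
  [dvr : IsDiscreteValuationRing T]
  a : Spec (CommRingCat.of T) ⟶ V
  b : Spec (CommRingCat.of T) ⟶ X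
  w : a ≫ β = b ≫ f
  ha : a (closedPoint T : PrimeSpectrum T) = v
  hb : b (closedPoint T : PrimeSpectrum T) = ξ
  hg : φ (f (b (⊥ : PrimeSpectrum T))) ≠ (closedPoint R : PrimeSpectrum R)

attribute [instance] Dat.cr Dat.dom Dat.dvr

/-- the structure map `R → T` -/
noncomputable def Dat.str {R : Type u} [CommRing R] [IsLocalRing R] {C X V : Scheme.{u}}
    {φ : C ⟶ Spec (CommRingCat.of R)} {f : X ⟶ C} {β : V ⟶ C} {v : V} {ξ : X} (d : Dat φ f β v ξ) : R →+* d.T :=
  (Spec.preimage (d.b ≫ f ≫ φ)).hom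

theorem Dat.Spec_map_str {R : Type u} [CommRing R] [IsLocalRing R] {C X V : Scheme.{u}}
    {φ : C ⟶ Spec (CommRingCat.of R)} {f : X ⟶ C} {β : V ⟶ C} {v : V} {ξ : X} (d : Dat φ f β v ξ) :
    Spec.map (CommRingCat.ofHom d.str) = d.b ≫ f ≫ φ := by
  change Spec.map (Spec.preimage (d.b ≫ f ≫ φ)) = _
  exact Spec.map_preimage _

/-- **Centres.** `X` and `Y` two `η`-isomorphic proper modifications of `C` over a discrete valuation ring with
algebraically closed residue field, `X` nodal, `e : V ⟶ Y` étale, `v ∈ V` a closed point of the special fibre,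
`ξ ∈ X` a non-closed point of the special fibre, whose centre on `Y` is `e v`. Then there is a universal pair
`(a, b) : Spec T ⟶ V, X` at `(v, ξ)`: `T` is unramified over `R` with residue field that of `ξ`, its generic point is
flat over `V`, and all other pairs factor through it. -/
def Center : Prop := ∀ (R : Type u) [CommRing R] [IsDomain R] [IsDiscreteValuationRing R]
    [IsAlgClosed (IsLocalRing.ResidueField R)] (ϖ : R) (_ : Irreducible ϖ)
    {C X Y V : Scheme.{u}} (φ : C ⟶ Spec (CommRingCat.of R)) [LocallyOfFiniteType φ] [IsSeparated φ]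
    (f : X ⟶ C) [IsProper f] (_ : SSMod.IsEtaIso φ f) (_ : Curv2.IsNodalFamily (f ≫ φ))
    (g : Y ⟶ C) [IsProper g] (_ : SSMod.IsEtaIso φ g)
    (e : V ⟶ Y) [Etale e] (v : V) (_ : IsClosed ({v} : Set V))
    (ξ : X) (_ : ¬ IsClosed ({ξ} : Set X)) (_ : φ (f ξ) = (closedPoint R : PrimeSpectrum R))
    (_ : Nonempty (Dat φ f g (e v) ξ)),
    ∃ d : Dat φ f (e ≫ g) v ξ, Irreducible (d.str ϖ) ∧
      Function.Surjective (d.b.residueFieldMap (closedPoint d.T : PrimeSpectrum d.T)).hom ∧
      Flat (Spec.map (CommRingCat.ofHom (algebraMap d.T (FractionRing d.T))) ≫ d.a) ∧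
      ∀ d' : Dat φ f (e ≫ g) v ξ, ∃ τ : d.T →+* d'.T,
        Spec.map (CommRingCat.ofHom τ) ≫ d.a = d'.a ∧ Spec.map (CommRingCat.ofHom τ) ≫ d.b = d'.b

/-- **Smooth points.** `h : U ⟶ X` a morphism over a discrete valuation ring, `U` smooth, `X` nodal, `h` étale on
generic fibres. If the point `e` of the special fibre of `U` has a generization `ε` in the special fibre with `h ε`
not closed then `h e` is a smooth point. -/
def SmoothPt : Prop := ∀ (R : Type u) [CommRing R] [IsDomain R] [IsDiscreteValuationRing R]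
    {X U : Scheme.{u}} (q : X ⟶ Spec (CommRingCat.of R)) (_ : Curv2.IsNodalFamily q)
    (h : U ⟶ X) (_ : Smooth (h ≫ q))
    (O : U.Opens) (_ : ∀ u : U, q (h u) ≠ (closedPoint R : PrimeSpectrum R) → u ∈ O) (_ : Etale (O.ι ≫ h))
    (e ε : U) (_ : ε ⤳ e) (_ : q (h ε) = (closedPoint R : PrimeSpectrum R)) (_ : ¬ IsClosed ({h ε} : Set X)),
    h e ∉ DualGr.nonsmoothPts q

/-- **Marked points.** `X`, `Y` semistable modifications of `C`, iso on generic fibres, `U` smooth over `R` with
compatible maps `h : U ⟶ X`, `b : U ⟶ Y`; `ε` in the special fibre of `U` with `h ε` not closed, `e₁, e₂`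
specializations of `ε` with the same image in `Y` and marked images in `X`. Then the common image in `Y` is marked and the
images in `X` agree. -/
def Marks : Prop := ∀ (R : Type u) [CommRing R] [IsDomain R] [IsDiscreteValuationRing R]
    [IsAdicComplete (IsLocalRing.maximalIdeal R) R] [IsAlgClosed (IsLocalRing.ResidueField R)]
    {C D X DX Y DY U : Scheme.{u}} [IsAffine C]
    (φ : C ⟶ Spec (CommRingCat.of R)) (i : D ⟶ C) (_ : SSMod.IsMPCurve φ i)
    (iX : DX ⟶ X) (f : X ⟶ C) (fD : DX ⟶ D) (_ : SSMod.IsSemistableModification φ i iX f fD)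
    (_ : SSMod.IsEtaIso φ f) (_ : SSMod.IsEtaIso (i ≫ φ) fD)
    (iY : DY ⟶ Y) (g : Y ⟶ C) (gD : DY ⟶ D) (_ : SSMod.IsSemistableModification φ i iY g gD)
    (_ : SSMod.IsEtaIso φ g) (_ : SSMod.IsEtaIso (i ≫ φ) gD)
    (h : U ⟶ X) (b : U ⟶ Y) (_ : h ≫ f = b ≫ g) (_ : Smooth (h ≫ f ≫ φ))
    (ε e₁ e₂ : U) (_ : ¬ IsClosed ({h ε} : Set X)) (_ : φ (f (h ε)) = (closedPoint R : PrimeSpectrum R))
    (_ : ε ⤳ e₁) (_ : ε ⤳ e₂) (_ : b e₁ = b e₂)
    (_ : h e₁ ∈ Set.range iX.base) (_ : h e₂ ∈ Set.range iX.base),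
    b e₁ ∈ Set.range iY.base ∧ h e₁ = h e₂

end K807.Iface
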