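import Groth.Agent.SSMod.K851.DV
import Groth.Agent.SSMod.K971.FacDVR
import Groth.Agent.SSMod.K481.Marks

/-!
# The discrete valuation ring case of S15273
-/

set_option autoImplicit false
universe u
open CategoryTheory CategoryTheory.Limits AlgebraicGeometry TopologicalSpace IsLocalRing

namespace K807.FacFrom851

open K851.DDef

theorem isIso_restrict {X Y : Scheme.{u}} (f : X ⟶ Y) {U V : Y.Opens} (h : U ≤ V) [IsIso (f ∣_ V)] :
    IsIso (f ∣_ U) := by
  have h1 : IsIso (f ∣_ V ∣_ (V.ι ⁻¹ᵁ U)) := inferInstance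
  have h2 : MorphismProperty.isomorphisms Scheme.{u} (f ∣_ V ∣_ (V.ι ⁻¹ᵁ U)) := h1
  rw [MorphismProperty.arrow_mk_iso_iff (MorphismProperty.isomorphisms Scheme.{u})
    (morphismRestrictRestrict f V (V.ι ⁻¹ᵁ U))] at h2
  have h3 : V.ι ''ᵁ V.ι ⁻¹ᵁ U = U := by
    rw [Scheme.Hom.image_preimage_eq_opensRange_inf, Scheme.Opens.opensRange_ι]
    exact inf_eq_right.2 h
  rw [h3] at h2
  exact h2

variable {R : Type u} [CommRing R] [IsDomain R] [IsDiscreteValuationRing R] {ϖ : R}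

theorem isIso_Dπ {C X : Scheme.{u}} {φ : C ⟶ Spec (CommRingCat.of R)} [LocallyOfFiniteType φ]
    {f : X ⟶ C} [IsProper f] (h : SSMod.IsEtaIso φ f) (hϖ : Irreducible ϖ) : IsIso (f ∣_ (φ ⁻¹ᵁ Dπ ϖ)) := by
  have hN : IsLocallyNoetherian C := LocallyOfFiniteType.isLocallyNoetherian φ
  obtain ⟨W, hW, hi⟩ := K971.EtaNbhd.exists_open_of_isEtaIso h
  refine isIso_restrict f (V := W) fun x hx => hW x (K481.Marks.eq_genericPoint ?_)
  intro hcp
  have h1 : φ x ∈ Dπ ϖ := hx
  rw [hcp] at h1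
  exact h1 hϖ.not_isUnit

theorem main : K971.SSUses.FacDVR.{u} := by
  intro R _ _ _ _ _ C D Cst Dst C' D' _ φ i hC ist fC fD hst hfC hfD i' gC gD hss hgC hgD
  obtain ⟨ϖ, hϖ⟩ := IsDiscreteValuationRing.exists_irreducible R
  have hlf : LocallyOfFinitePresentation φ := hC.2.1
  have hpf : IsProper fC := hst.1.1.2.2.1.1
  have hpg : IsProper gC := hss.1.2.2.1.1
  have hsm : ∀ {X DX : Scheme.{u}} {q : X ⟶ Spec (CommRingCat.of R)} [LocallyOfFinitePresentation q] {j : DX ⟶ X}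
      (_ : Disjoint (Set.range (j.base : DX → X)) (DualGr.nonsmoothPts q)) (x : DX), j x ∈ q.smoothLocus := by
    intro X DX q _ j hd x
    by_contra h
    exact Set.disjoint_left.1 hd ⟨x, rfl⟩ h
  have hlX : LocallyOfFinitePresentation (gC ≫ φ) := hss.2.2.1.2.1
  have hlY : LocallyOfFinitePresentation (fC ≫ φ) := hst.1.2.2.1.2.1
  let 𝔇 : DD R :=
    { π := ϖ, hπ := hϖ, C := C, X := C', Y := Cst, DX := D', DY := Dst, c := φ, f := gC, g := fC, iX := i', iY := ist
      pf := hpg, pg := hpf, aC := inferInstance, fc := inferInstance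
      nX := hss.2.2.1, nY := hst.1.2.2.1
      lX := hss.2.2.1.2.1, lY := hst.1.2.2.1.2.1
      cX := hss.1.2.1.2.2.2.2.2.1, cY := hst.1.1.2.1.2.2.2.2.2.1
      eX := hss.2.2.2.1, eY := hst.1.2.2.2.1
      sX := hsm hss.2.2.2.2, sY := hsm hst.1.2.2.2.2
      isoX := isIso_Dπ hgC hϖ, isoY := isIso_Dπ hfC hϖ
      hD := by
        rintro x y hxy hcp ⟨δ, rfl⟩
        have hx : φ (gC x) = genericPoint (Spec (CommRingCat.of R)) := K481.Marks.eq_genericPoint hcp
        have h1 : gC x = i (fD δ) := by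
          rw [hxy, ← Scheme.Hom.comp_apply, hst.1.1.1, Scheme.Hom.comp_apply]
        have h2 : (i ≫ φ) (fD δ) = genericPoint (Spec (CommRingCat.of R)) := by
          rw [Scheme.Hom.comp_apply, ← h1, hx]
        obtain ⟨δ', hδ'⟩ := K481.Marks.exists_of_isEtaIso hgD h2
        refine ⟨δ', ?_⟩
        refine K481.Marks.eq_of_isEtaIso hgC (x := i' δ') (y := x) ?_ ?_
        · have h3 : gC (i' δ') = i (gD δ') := by
            rw [← Scheme.Hom.comp_apply, hss.1.1, Scheme.Hom.comp_apply]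
          rw [h3, hδ', ← h1]
          exact hx
        · rw [← Scheme.Hom.comp_apply, hss.1.1, Scheme.Hom.comp_apply, hδ', ← h1] }
  refine K851.DV.dvr_main 𝔇 ?_
  intro Z hZ
  exact hst.2 (ResidueField R) _ Z hZ

end K807.FacFrom851
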