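import Groth.Agent.SSMod.K807.Iface

/-!
# The discrete valuation ring case of S15273: the extension statement
-/

set_option autoImplicit false
universe u
open CategoryTheory CategoryTheory.Limits AlgebraicGeometry TopologicalSpace IsLocalRing

namespace K807.Iface

/-- **Extension.** `f : X ⟶ C` proper, an isomorphism on generic fibres, `β : U ⟶ C` with `U` a nodal family over the
discrete valuation ring `R`. If no closed point `u` of `U` and no non-closed point `ξ` of the special fibre of `X`
are joined by a pair of points with values in a discrete valuation ring then `β` factors through `f`. -/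
def Ext : Prop := ∀ (R : Type u) [CommRing R] [IsDomain R] [IsDiscreteValuationRing R]
    [IsAlgClosed (IsLocalRing.ResidueField R)]
    {C X U : Scheme.{u}} (φ : C ⟶ Spec (CommRingCat.of R)) [LocallyOfFiniteType φ] [IsSeparated φ]
    (f : X ⟶ C) [IsProper f] (_ : SSMod.IsEtaIso φ f)
    (β : U ⟶ C) (_ : Curv2.IsNodalFamily (β ≫ φ))
    (_ : ∀ (u : U) (ξ : X), IsClosed ({u} : Set U) → ¬ IsClosed ({ξ} : Set X) →
      φ (f ξ) = (closedPoint R : PrimeSpectrum R) → IsEmpty (Dat φ f β u ξ)),
    ∃ h : U ⟶ X, h ≫ f = β

end K807.Iface
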